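import Mathlib
import Groth.Prelude.Def_SchLoc
import Groth.Agent.S2243

universe u
open CategoryTheory Limits MorphismProperty AlgebraicGeometry TopologicalSpace

namespace Groth.Agent.LocImm

variable {X Y Z : Scheme.{u}}

theorem isLocalImmersionAt_iff (f : X ⟶ Y) (x : X) :
    SchLoc.IsLocalImmersionAt f x ↔ ∃ U : X.Opens, x ∈ U ∧ IsImmersion (U.ι ≫ f) := by
  constructor
  · rintro ⟨U, V, h, hx, hci⟩
    exact ⟨U, hx, by rw [← Scheme.Hom.resLE_comp_ι f h]; infer_instance⟩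
  · rintro ⟨U, hx, hi⟩
    let g := U.ι ≫ f
    have hle : U ≤ f ⁻¹ᵁ g.coborderRange := by
      intro z hz
      exact subset_coborder (⟨⟨z, hz⟩, rfl⟩ : f z ∈ Set.range g)
    refine ⟨U, g.coborderRange, hle, hx, ?_⟩
    rw [show f.resLE g.coborderRange U hle = g.liftCoborder by
      rw [← cancel_mono g.coborderRange.ι, Scheme.Hom.resLE_comp_ι, Scheme.Hom.liftCoborder_ι]]
    infer_instance

theorem isImmersion_restrict (f : X ⟶ Y) {U W : X.Opens} (h : W ≤ U) [IsImmersion (U.ι ≫ f)] :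
    IsImmersion (W.ι ≫ f) := by
  rw [← X.homOfLE_ι h, Category.assoc]; infer_instance

theorem of_comp (f : X ⟶ Y) (g : Y ⟶ Z) (h : SchLoc.IsLocalImmersion (f ≫ g)) : SchLoc.IsLocalImmersion f := by
  intro x
  obtain ⟨U, hx, hi⟩ := (isLocalImmersionAt_iff _ x).mp (h x)
  refine (isLocalImmersionAt_iff _ x).mpr ⟨U, hx, ?_⟩
  have : IsImmersion ((U.ι ≫ f) ≫ g) := by rwa [Category.assoc]
  exact IsImmersion.of_comp _ g

theorem comp (f : X ⟶ Y) (g : Y ⟶ Z) (hf : SchLoc.IsLocalImmersion f) (hg : SchLoc.IsLocalImmersion g) :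
    SchLoc.IsLocalImmersion (f ≫ g) := by
  intro x
  obtain ⟨U, hx, hi⟩ := (isLocalImmersionAt_iff _ x).mp (hf x)
  obtain ⟨V, hy, hj⟩ := (isLocalImmersionAt_iff _ _).mp (hg (f x))
  refine (isLocalImmersionAt_iff _ x).mpr ⟨U ⊓ f ⁻¹ᵁ V, ⟨hx, hy⟩, ?_⟩
  have := isImmersion_restrict f (U := U) (W := U ⊓ f ⁻¹ᵁ V) inf_le_left
  have hle : U ⊓ f ⁻¹ᵁ V ≤ f ⁻¹ᵁ V := inf_le_right
  have e : f.resLE V _ hle ≫ V.ι = (U ⊓ f ⁻¹ᵁ V).ι ≫ f := Scheme.Hom.resLE_comp_ι f hle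
  have : IsImmersion (f.resLE V _ hle) := by
    have : IsImmersion (f.resLE V _ hle ≫ V.ι) := by rw [e]; infer_instance
    exact IsImmersion.of_comp _ V.ι
  rw [← Category.assoc, ← e, Category.assoc]
  infer_instance

theorem baseChange {S S' : Scheme.{u}} (f : X ⟶ S) (g : S' ⟶ S) (hf : SchLoc.IsLocalImmersion f) :
    SchLoc.IsLocalImmersion (pullback.snd f g) := by
  intro p
  obtain ⟨U, hx, hi⟩ := (isLocalImmersionAt_iff _ _).mp (hf (pullback.fst f g p))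
  refine (isLocalImmersionAt_iff _ _).mpr ⟨pullback.fst f g ⁻¹ᵁ U, hx, ?_⟩
  have h := (isPullback_morphismRestrict (pullback.fst f g) U).paste_vert (IsPullback.of_hasPullback f g)
  exact MorphismProperty.of_isPullback (P := @IsImmersion) h ‹_›

theorem isLocalImmersionAt_of_stalkMap_surjective (f : X ⟶ Y) [LocallyOfFiniteType f] (x : X)
    (h : Function.Surjective (f.stalkMap x)) : SchLoc.IsLocalImmersionAt f x := by
  obtain ⟨V, hV, hyV, -⟩ := exists_isAffineOpen_mem_and_subset (U := (⊤ : Y.Opens)) (x := f x) trivial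
  obtain ⟨U, hU, hxU, hUV⟩ := exists_isAffineOpen_mem_and_subset (U := f ⁻¹ᵁ V) (x := x) hyV
  let φ := (f.appLE V U hUV).hom
  have hft : φ.FiniteType := f.finiteType_appLE hV hU hUV
  letI := (Y.presheaf.germ V (f x) hyV).hom.toAlgebra
  letI := (X.presheaf.germ U x hxU).hom.toAlgebra
  let p := (hV.primeIdealOf ⟨f x, hyV⟩).asIdeal
  let q := (hU.primeIdealOf ⟨x, hxU⟩).asIdeal
  have : IsLocalization.AtPrime (Y.presheaf.stalk (f x)) p := hV.isLocalization_stalk ⟨f x, hyV⟩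
  have : IsLocalization.AtPrime (X.presheaf.stalk x) q := hU.isLocalization_stalk ⟨x, hxU⟩
  have hgerm : ∀ a, f.stalkMap x (Y.presheaf.germ V (f x) hyV a) = X.presheaf.germ U x hxU (φ a) := by
    intro a
    rw [Scheme.Hom.germ_stalkMap_apply]
    exact (X.presheaf.germ_res_apply (homOfLE hUV) x hxU _).symm
  have hpre : ∀ a, φ a ∈ q → a ∈ p := by
    intro a ha
    by_contra hap
    have h1 := (IsLocalization.AtPrime.isUnit_to_map_iff (Y.presheaf.stalk (f x)) p a).mpr hap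
    have h2 : IsUnit (algebraMap Γ(X, U) (X.presheaf.stalk x) (φ a)) := (hgerm a) ▸ h1.map (f.stalkMap x).hom
    exact (IsLocalization.AtPrime.isUnit_to_map_iff (X.presheaf.stalk x) q _).mp h2 ha
  have key : ∀ b : Γ(X, U), ∃ (a s : Γ(Y, V)) (w : Γ(X, U)), s ∉ p ∧ w ∉ q ∧ w * (φ s * b) = w * φ a := by
    intro b
    obtain ⟨c, hc⟩ := h (algebraMap Γ(X, U) (X.presheaf.stalk x) b)
    obtain ⟨a, s, rfl⟩ := IsLocalization.exists_mk'_eq p.primeCompl c
    have e := congrArg (f.stalkMap x) (IsLocalization.mk'_spec (Y.presheaf.stalk (f x)) a s)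
    rw [map_mul, hc] at e
    have e' : algebraMap Γ(X, U) (X.presheaf.stalk x) (φ s.1 * b) = algebraMap _ _ (φ a) := by
      rw [map_mul, mul_comm]
      rw [show algebraMap Γ(Y, V) (Y.presheaf.stalk (f x)) s.1 = Y.presheaf.germ V (f x) hyV s.1 from rfl,
        show algebraMap Γ(Y, V) (Y.presheaf.stalk (f x)) a = Y.presheaf.germ V (f x) hyV a from rfl, hgerm, hgerm] at e
      exact e
    obtain ⟨w, hw⟩ := (IsLocalization.eq_iff_exists q.primeCompl (X.presheaf.stalk x)).mp e'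
    exact ⟨a, s, w, s.2, w.2, hw⟩
  classical
  letI := φ.toAlgebra
  obtain ⟨T, hT⟩ := (show Algebra.FiniteType Γ(Y, V) Γ(X, U) from hft).out
  choose a s w hs hw he using key
  let S := ∏ b ∈ T, s b
  let W := ∏ b ∈ T, w b
  have hS : S ∉ p := fun hh ↦ by
    obtain ⟨b, -, hb⟩ := Ideal.IsPrime.prod_mem_iff.mp hh
    exact hs b hb
  have hW : W ∉ q := fun hh ↦ by
    obtain ⟨b, -, hb⟩ := Ideal.IsPrime.prod_mem_iff.mp hh
    exact hw b hb
  have hSq : φ S ∉ q := fun hh ↦ hS (hpre _ hh)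
  let G := W * φ S
  have hG : G ∉ q := fun hh ↦ (Ideal.IsPrime.mem_or_mem inferInstance hh).elim hW hSq
  let B' := Γ(X, X.basicOpen G)
  letI : Algebra Γ(X, U) B' := (X.presheaf.map (homOfLE (X.basicOpen_le G)).op).hom.toAlgebra
  haveI : IsLocalization.Away G B' := hU.isLocalization_basicOpen G
  let ι : Γ(X, U) →+* B' := algebraMap _ _
  have hGu : IsUnit (ι G) := IsLocalization.Away.algebraMap_isUnit G
  have hSu : IsUnit (ι (φ S)) := (IsUnit.mul_iff.mp (by rw [← map_mul]; exact hGu)).2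
  have hWu : IsUnit (ι W) := (IsUnit.mul_iff.mp (by rw [← map_mul]; exact hGu)).1
  let R : Subalgebra Γ(Y, V) Γ(X, U) :=
    { carrier := {b | ∃ (n : ℕ) (c : Γ(Y, V)), ι b * ι (φ S) ^ n = ι (φ c)}
      mul_mem' := by
        rintro b b' ⟨n, c, h⟩ ⟨n', c', h'⟩
        exact ⟨n + n', c * c', by rw [map_mul, map_mul, map_mul, pow_add, ← h, ← h']; ring⟩
      add_mem' := by
        rintro b b' ⟨n, c, h⟩ ⟨n', c', h'⟩
        exact ⟨n + n', c * S ^ n' + c' * S ^ n, by simp only [map_add, map_mul, map_pow, add_mul, pow_add, ← h, ← h']; ring⟩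
      algebraMap_mem' := fun c ↦ ⟨0, c, by simp; rfl⟩ }
  have hR : R = ⊤ := by
    rw [← top_le_iff, ← hT, Algebra.adjoin_le_iff]
    intro b hb
    obtain ⟨S', hS'⟩ : s b ∣ S := Finset.dvd_prod_of_mem _ hb
    obtain ⟨W', hW'⟩ : w b ∣ W := Finset.dvd_prod_of_mem _ hb
    have hwu : IsUnit (ι (w b)) := (IsUnit.mul_iff.mp (by rw [← map_mul, ← hW']; exact hWu)).1
    refine ⟨1, a b * S', hwu.mul_left_cancel ?_⟩
    rw [pow_one, hS', map_mul φ, map_mul φ]
    calc ι (w b) * (ι b * ι (φ (s b) * φ S')) = ι (w b * (φ (s b) * b)) * ι (φ S') := by simp only [map_mul]; ring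
      _ = ι (w b * φ (a b)) * ι (φ S') := by rw [he]
      _ = _ := by simp only [map_mul]; ring
  obtain ⟨m, g, hg⟩ : G ∈ R := hR ▸ Algebra.mem_top
  have hgq : g ∉ p := fun hh ↦ by
    have : ∀ z ∉ q, IsUnit (algebraMap Γ(X, U) (X.presheaf.stalk x) z) := fun z hz ↦
      (IsLocalization.AtPrime.isUnit_to_map_iff (X.presheaf.stalk x) q z).mpr hz
    let toStalk : B' →+* X.presheaf.stalk x := IsLocalization.Away.lift G (g := algebraMap Γ(X, U) _) (this G hG)
    have e := congrArg toStalk hg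
    rw [map_mul, map_pow] at e
    simp only [toStalk, ι, IsLocalization.Away.lift_eq] at e
    have hu : IsUnit (algebraMap Γ(X, U) (X.presheaf.stalk x) (φ g)) := e ▸ (this G hG).mul ((this _ hSq).pow m)
    replace hu : IsUnit (f.stalkMap x (Y.presheaf.germ V (f x) hyV g)) := (hgerm g).symm ▸ hu
    exact (IsLocalization.AtPrime.isUnit_to_map_iff (Y.presheaf.stalk (f x)) p g).mp
      ((isUnit_map_iff (f.stalkMap x).hom _).mp hu) hh
  let A' := Localization.Away (S * g)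
  have hgu : IsUnit (ι (φ g)) := hg ▸ hGu.mul (hSu.pow m)
  have hu : IsUnit ((ι.comp φ) (S * g)) := by simpa using hSu.mul hgu
  let ψ : A' →+* B' := IsLocalization.Away.lift (S * g) hu
  have hψS : ∀ n : ℕ, ∃ c, ψ c * ι (φ S) ^ n = 1 := fun n ↦ by
    refine ⟨(IsLocalization.Away.invSelf (S * g) * algebraMap Γ(Y, V) A' g) ^ n, ?_⟩
    rw [map_pow, ← mul_pow]
    have : IsLocalization.Away.invSelf (S * g) * algebraMap Γ(Y, V) A' g * algebraMap Γ(Y, V) A' S = 1 := by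
      rw [mul_assoc, ← map_mul, mul_comm g, mul_comm]; exact IsLocalization.Away.mul_invSelf _
    have h2 := congrArg ψ this
    rw [map_mul, map_one] at h2
    simp only [ψ, IsLocalization.Away.lift_eq, RingHom.comp_apply] at h2
    rw [h2, one_pow]
  have hψι : ∀ b, ∃ c, ψ c = ι b := fun b ↦ by
    obtain ⟨n, c, hc⟩ : b ∈ R := hR ▸ Algebra.mem_top
    obtain ⟨d, hd⟩ := hψS n
    refine ⟨algebraMap _ _ c * d, ?_⟩
    rw [map_mul, show ψ (algebraMap _ _ c) = ι (φ c) from IsLocalization.Away.lift_eq (x := S * g) hu c, ← hc,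
      mul_assoc, mul_comm _ (ψ d), hd, mul_one]
  have hψ : Function.Surjective ψ := by
    intro z
    obtain ⟨⟨b, ⟨_, n, rfl⟩⟩, hz⟩ := IsLocalization.surj (Submonoid.powers G) z
    obtain ⟨c, hc⟩ := hψι b
    obtain ⟨d, hd⟩ := hψS m
    refine ⟨c * (IsLocalization.Away.invSelf (S * g) * algebraMap Γ(Y, V) A' S * algebraMap Γ(Y, V) A' S ^ m) ^ n, ?_⟩
    refine ((hGu.pow n).mul_left_injective ?_)
    change _ * ι G ^ n = z * ι G ^ n
    have hz' : z * ι G ^ n = ι b := by rw [← map_pow]; exact hz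
    rw [hz', map_mul, hc, map_pow, mul_assoc, ← mul_pow]
    have h3 : ψ (IsLocalization.Away.invSelf (S * g) * algebraMap Γ(Y, V) A' S * algebraMap Γ(Y, V) A' S ^ m) * ι G = 1 := by
      have : IsLocalization.Away.invSelf (S * g) * algebraMap Γ(Y, V) A' (S * g) = 1 := by
        rw [mul_comm]; exact IsLocalization.Away.mul_invSelf _
      have h2 := congrArg ψ this
      simp only [map_mul, map_one, map_pow, ψ, IsLocalization.Away.lift_eq, RingHom.comp_apply] at h2 ⊢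
      rw [← h2, ← hg]; ring
    rw [h3, one_pow, mul_one]
  have hGx : x ∈ X.basicOpen G := (X.mem_basicOpen G x hxU).mpr
    ((IsLocalization.AtPrime.isUnit_to_map_iff (X.presheaf.stalk x) q G).mpr hG)
  have hle : X.basicOpen G ≤ U := X.basicOpen_le G
  have hD : IsAffineOpen (X.basicOpen G) := hU.basicOpen G
  have hDV : X.basicOpen G ≤ f ⁻¹ᵁ V := hle.trans hUV
  refine (isLocalImmersionAt_iff _ _).mpr ⟨X.basicOpen G, hGx, ?_⟩
  have hcomp : hD.fromSpec ≫ f =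
      Spec.map (CommRingCat.ofHom ψ) ≫ Spec.map (CommRingCat.ofHom (algebraMap Γ(Y, V) A')) ≫ hV.fromSpec := by
    rw [← IsAffineOpen.SpecMap_appLE_fromSpec f hV hD hDV, ← Spec.map_comp_assoc]
    congr 2
    ext c
    refine Eq.trans ?_ (IsLocalization.Away.lift_eq (x := S * g) hu c).symm
    change _ = X.presheaf.map (homOfLE hle).op (φ c)
    simp only [φ, ← CommRingCat.comp_apply, Scheme.Hom.appLE_map]
  have : IsClosedImmersion (Spec.map (CommRingCat.ofHom ψ)) := IsClosedImmersion.spec_of_surjective _ hψ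
  have : IsOpenImmersion (Spec.map (CommRingCat.ofHom (algebraMap Γ(Y, V) A'))) := IsOpenImmersion.of_isLocalization (S * g)
  rw [← hD.toSpecΓ_fromSpec, Category.assoc, hcomp, ← hD.isoSpec_hom]
  infer_instance

theorem stalkMap_surjective_of_isLocalImmersionAt (f : X ⟶ Y) (x : X)
    (h : SchLoc.IsLocalImmersionAt f x) : Function.Surjective (f.stalkMap x) := by
  obtain ⟨U, hx, hi⟩ := (isLocalImmersionAt_iff _ _).mp h
  have e := (U.ι ≫ f).stalkMap_surjective ⟨x, hx⟩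
  rw [Scheme.Hom.stalkMap_comp] at e
  intro z
  obtain ⟨c, hc⟩ := e (U.ι.stalkMap ⟨x, hx⟩ z)
  exact ⟨c, (ConcreteCategory.bijective_of_isIso (U.ι.stalkMap ⟨x, hx⟩)).1 hc⟩

theorem isImmersion_and_isOpen_range (f : X ⟶ Y) [IrreducibleSpace X] [IsDominant f]
    (hf : SchLoc.IsLocalImmersion f) (hi : Function.Injective f.base) :
    IsImmersion f ∧ IsOpen (Set.range f.base) := by
  have key : ∀ x, ∃ V : Y.Opens, f x ∈ V ∧ (V : Set Y) ⊆ Set.range f ∧ IsClosedImmersion (f ∣_ V) := by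
    intro x
    obtain ⟨U, V, h, hx, hci⟩ := hf x
    have hrc : IsClosed (Set.range (f.resLE V U h)) := (f.resLE V U h).isClosedEmbedding.isClosed_range
    obtain ⟨C, hC, hCe⟩ := isClosed_induced_iff.mp hrc
    have hUd : Dense (U : Set X) := U.isOpen.dense ⟨x, hx⟩
    have himg : f '' (U : Set X) = (V : Set Y) ∩ C := by
      ext y
      constructor
      · rintro ⟨z, hz, rfl⟩
        have : f.resLE V U h ⟨z, hz⟩ ∈ Subtype.val ⁻¹' C := hCe.ge ⟨_, rfl⟩
        refine ⟨h hz, ?_⟩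
        have e : V.ι (f.resLE V U h ⟨z, hz⟩) = f z := by rw [← Scheme.Hom.comp_apply, Scheme.Hom.resLE_comp_ι]; rfl
        rw [← e]; exact this
      · rintro ⟨hyV, hyC⟩
        obtain ⟨z, hz⟩ := (Set.ext_iff.mp hCe ⟨y, hyV⟩).mp hyC
        refine ⟨z.1, z.2, ?_⟩
        have e : V.ι (f.resLE V U h z) = f z.1 := by rw [← Scheme.Hom.comp_apply, Scheme.Hom.resLE_comp_ι]; rfl
        rw [← e, hz]; rfl
    have hVC : (V : Set Y) ⊆ C := by
      intro y hy
      have hd : Dense (f '' (U : Set X)) := f.denseRange.dense_image f.continuous hUd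
      rw [himg] at hd
      exact closure_minimal Set.inter_subset_right hC (hd y)
    have hV' : (V : Set Y) = f '' (U : Set X) := by rw [himg, Set.inter_eq_left.mpr hVC]
    have hpre : f ⁻¹ᵁ V = U := by
      refine le_antisymm (fun z hz ↦ ?_) h
      obtain ⟨z', hz', e⟩ := hV'.le (show f z ∈ (V : Set Y) from hz)
      exact hi e ▸ hz'
    refine ⟨V, h hx, hV'.le.trans (Set.image_subset_range _ _), ?_⟩
    subst hpre
    rw [← Scheme.Hom.resLE_eq_morphismRestrict]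
    exact hci
  choose V hV hsub hci using key
  have hopen : IsOpen (Set.range f.base) :=
    isOpen_iff_forall_mem_open.mpr fun y ⟨x, hx⟩ ↦ hx ▸ ⟨V x, hsub x, (V x).isOpen, hV x⟩
  refine ⟨?_, hopen⟩
  let W : Y.Opens := ⟨Set.range f.base, hopen⟩
  let g : X ⟶ W.toScheme := IsOpenImmersion.lift W.ι f (by simp [W])
  have hg : g ≫ W.ι = f := IsOpenImmersion.lift_fac _ _ _
  have hcov : ⨆ x, W.ι ⁻¹ᵁ V x = ⊤ := by
    refine Opens.ext (Set.eq_univ_of_forall fun w ↦ ?_)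
    obtain ⟨x, hx⟩ := w.2
    simp only [Opens.coe_iSup, Set.mem_iUnion]
    exact ⟨x, show w.1 ∈ V x from (show f x = w.1 from hx) ▸ hV x⟩
  have : IsClosedImmersion g := by
    refine IsZariskiLocalAtTarget.of_iSup_eq_top _ hcov fun x ↦ ?_
    have h1 : IsClosedImmersion ((g ∣_ (W.ι ⁻¹ᵁ V x)) ≫ (W.ι ∣_ V x)) := by
      rw [← morphismRestrict_comp]
      have h0 : ∀ r, r = f → IsClosedImmersion (r ∣_ V x) := by rintro r rfl; exact hci x
      exact h0 _ hg
    exact IsClosedImmersion.of_comp _ (W.ι ∣_ V x)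
  rw [← hg]; infer_instance

theorem isIso_stalkMap_of_isLocalIsoAt (f : X ⟶ Y) (x : X) (h : SchLoc.IsLocalIsoAt f x) : IsIso (f.stalkMap x) := by
  obtain ⟨U, hx, hU⟩ := h
  let z : U.toScheme := ⟨x, hx⟩
  have e : IsIso ((U.ι ≫ f).stalkMap z) := inferInstance
  have i1 : IsIso (U.ι.stalkMap z) := inferInstance
  rw [Scheme.Hom.stalkMap_comp] at e
  exact @IsIso.of_isIso_comp_right _ _ _ _ _ (f.stalkMap x) (U.ι.stalkMap z) i1 e

theorem isOpenImmersion_of_isLocalIso (f : X ⟶ Y) [IrreducibleSpace X]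
    (hf : SchLoc.IsLocalIso f) [IsSeparated f] : IsOpenImmersion f := by
  have hli : SchLoc.IsLocalImmersion f := fun x ↦ by
    obtain ⟨U, hx, hU⟩ := hf x
    exact (isLocalImmersionAt_iff _ _).mpr ⟨U, hx, inferInstance⟩
  have := Groth.Agent.S2243.result f hli
  have : ∀ x : X, IsIso (f.stalkMap x) := by
    intro x
    exact isIso_stalkMap_of_isLocalIsoAt f x (hf x)
  refine IsOpenImmersion.of_isIso_stalkMap f ⟨f.isEmbedding, isOpen_iff_forall_mem_open.mpr ?_⟩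
  rintro _ ⟨x, rfl⟩
  obtain ⟨U, hx, hU⟩ := hf x
  exact ⟨Set.range (U.ι ≫ f), by rintro _ ⟨z, rfl⟩; exact ⟨_, rfl⟩, (U.ι ≫ f).isOpenEmbedding.isOpen_range, ⟨⟨x, hx⟩, rfl⟩⟩

theorem isLocalIsoAt_of_isIso_stalkMap (f : X ⟶ Y) [IsLocallyNoetherian Y] [LocallyOfFiniteType f] (x : X)
    [IsIso (f.stalkMap x)] : SchLoc.IsLocalIsoAt f x := by
  have : IsLocallyNoetherian X := LocallyOfFiniteType.isLocallyNoetherian f
  obtain ⟨V, hyV, s, hs1, hs2⟩ := spread_out_of_isGermInjective' (𝟙 Y) f (x := f x)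
    (Spec.map (inv (f.stalkMap x)) ≫ X.fromSpecStalk x) (by
      rw [Category.assoc, ← Scheme.SpecMap_stalkMap_fromSpecStalk, ← Spec.map_comp_assoc, IsIso.hom_inv_id, Spec.map_id, Category.id_comp, Category.comp_id])
  rw [Category.comp_id] at hs2
  let g : (f ⁻¹ᵁ V).toScheme ⟶ X := (f ∣_ V) ≫ s
  let x' : (f ⁻¹ᵁ V).toScheme := ⟨x, hyV⟩
  obtain ⟨U, hxU, hU⟩ := spread_out_unique_of_isGermInjective' (x := x') g (f ⁻¹ᵁ V).ι (by
    refine (cancel_epi (Spec.map (inv ((f ⁻¹ᵁ V).ι.stalkMap x')))).mp ?_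
    rw [← Category.assoc, ← Category.assoc]
    change (f ⁻¹ᵁ V).fromSpecStalkOfMem x hyV ≫ (f ∣_ V) ≫ s = (f ⁻¹ᵁ V).fromSpecStalkOfMem x hyV ≫ (f ⁻¹ᵁ V).ι
    have h1 : (f ⁻¹ᵁ V).fromSpecStalkOfMem x hyV ≫ (f ∣_ V) = Spec.map (f.stalkMap x) ≫ V.fromSpecStalkOfMem (f x) hyV := by
      rw [← cancel_mono V.ι]
      simp only [Category.assoc, morphismRestrict_ι, Scheme.Opens.fromSpecStalkOfMem_ι, Scheme.SpecMap_stalkMap_fromSpecStalk, Scheme.Opens.fromSpecStalkOfMem_ι_assoc]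
    rw [reassoc_of% h1, ← hs1, ← Spec.map_comp_assoc, IsIso.inv_hom_id, Spec.map_id, Category.id_comp]
    exact ((f ⁻¹ᵁ V).fromSpecStalkOfMem_ι x hyV).symm)
  let U' : X.Opens := (f ⁻¹ᵁ V).ι ''ᵁ U
  refine ⟨U', ⟨x', hxU, rfl⟩, ?_⟩
  let P : Y.Opens := V.ι ''ᵁ (s ⁻¹ᵁ U')
  have hle : U' ≤ f ⁻¹ᵁ P := by
    rintro _ ⟨z, hz, rfl⟩
    refine ⟨(f ∣_ V) z, ?_, ?_⟩
    · have e : s ((f ∣_ V) z) = (f ⁻¹ᵁ V).ι z := congrArg (fun q ↦ Scheme.Hom.toLRSHom q |>.base (⟨z, hz⟩ : U)) hU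
      exact ⟨z, hz, e.symm⟩
    · change V.ι ((f ∣_ V) z) = f ((f ⁻¹ᵁ V).ι z)
      rw [← Scheme.Hom.comp_apply, ← Scheme.Hom.comp_apply, morphismRestrict_ι]
  have hPV : P ≤ V := by rintro _ ⟨w, _, rfl⟩; exact w.2
  have hsP : P ≤ V.ι ''ᵁ (s ⁻¹ᵁ U') := le_rfl
  let k : P.toScheme ⟶ U'.toScheme := IsOpenImmersion.lift U'.ι (Y.homOfLE hPV ≫ s) (by
    rintro _ ⟨w, rfl⟩
    obtain ⟨w', hw', e⟩ := w.2
    rw [Scheme.Opens.range_ι]
    have : Y.homOfLE hPV w = w' := by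
      apply V.ι.isOpenEmbedding.injective
      rw [← Scheme.Hom.comp_apply, Scheme.homOfLE_ι]
      exact e.symm
    rw [Scheme.Hom.comp_apply, this]; exact hw')
  have hk : k ≫ U'.ι = Y.homOfLE hPV ≫ s := IsOpenImmersion.lift_fac _ _ _
  have : IsIso (f.resLE P U' hle) := by
    refine ⟨k, ?_, ?_⟩
    · rw [← cancel_mono U'.ι, Category.assoc, hk, Category.id_comp, ← cancel_epi ((f ⁻¹ᵁ V).ι.isoImage U).hom,
        Scheme.Hom.isoImage_hom_ι, ← hU]
      simp only [g, ← Category.assoc]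
      congr 1
      rw [← cancel_mono V.ι]
      simp only [Category.assoc, morphismRestrict_ι, Scheme.homOfLE_ι, Scheme.Hom.resLE_comp_ι, Scheme.Hom.isoImage_hom_ι_assoc]
      exact Scheme.Hom.isoImage_hom_ι_assoc _ _ _
    · rw [← cancel_mono P.ι, Category.assoc, Scheme.Hom.resLE_comp_ι, Category.id_comp, ← Category.assoc, hk, Category.assoc, hs2, Scheme.homOfLE_ι]
  rw [← Scheme.Hom.resLE_comp_ι f hle]
  infer_instance

end Groth.Agent.LocImm
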